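import Mathlib
import Groth.Agent.QCohLib.Basic
import Groth.Agent.QCohLib.StalkRestrict
import Groth.Prelude.Def_ZClos

/-!
# Z-closure of sheaves of modules: stalks, supports, lifting
-/

universe u

open CategoryTheory CategoryTheory.Limits AlgebraicGeometry TopologicalSpace Opposite ZClos Groth.Agent.QCohLib

namespace Groth.Agent.ZClosLib

variable {X : Scheme.{u}}

/-- `T.U ∩ V`, as the opens which define the sections of `resPush`. -/
abbrev cut (U V : X.Opens) : X.Opens := U.ι ''ᵁ U.ι ⁻¹ᵁ V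

theorem mem_cut {U V : X.Opens} {x : X} : x ∈ cut U V ↔ x ∈ U ∧ x ∈ V := by
  rw [cut, ι_image_preimage]
  exact Iff.rfl

theorem cut_le (U V : X.Opens) : cut U V ≤ V := fun _ h => (mem_cut.mp h).2

theorem cut_le_left (U V : X.Opens) : cut U V ≤ U := fun _ h => (mem_cut.mp h).1

/-- Restriction of sections. -/
noncomputable abbrev res (M : X.Modules) {V W : X.Opens} (h : V ≤ W) : Γ(M, W) → Γ(M, V) :=
  fun s => M.presheaf.map (homOfLE h).op s

theorem res_res (M : X.Modules) {U V W : X.Opens} (h₁ : U ≤ V) (h₂ : V ≤ W) (s : Γ(M, W)) :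
    res M h₁ (res M h₂ s) = res M (h₁.trans h₂) s := map_map M h₁ h₂ s

theorem res_bijective_of_eq (M : X.Modules) {V W : X.Opens} (h : V ≤ W) (e : V = W) :
    Function.Bijective (res M h) := by
  subst e
  exact ⟨fun a b hab => by simpa [res, map_self] using hab, fun a => ⟨a, map_self M _ _⟩⟩

theorem res_zero (M : X.Modules) {V W : X.Opens} (h : V ≤ W) : res M h 0 = 0 :=
  map_zero (M.presheaf.map (homOfLE h).op).hom

theorem res_sub (M : X.Modules) {V W : X.Opens} (h : V ≤ W) (a b : Γ(M, W)) :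
    res M h (a - b) = res M h a - res M h b :=
  map_sub (M.presheaf.map (homOfLE h).op).hom a b

theorem app_res {M N : X.Modules} (φ : M ⟶ N) {V W : X.Opens} (h : V ≤ W) (s : Γ(M, W)) :
    φ.app V (res M h s) = res N h (φ.app W s) := app_map φ h s

theorem germ_res (M : X.Modules) {V W : X.Opens} (h : V ≤ W) (x : X) (hx : x ∈ V) (s : Γ(M, W)) :
    M.presheaf.germ V x hx (res M h s) = M.presheaf.germ W x (h hx) s :=
  TopCat.Presheaf.germ_res_apply M.presheaf (homOfLE h) x hx s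

theorem exists_res_eq (M : X.Modules) {V W : X.Opens} {x : X} (hxV : x ∈ V) (hxW : x ∈ W) (s : Γ(M, V))
    (t : Γ(M, W)) (e : M.presheaf.germ V x hxV s = M.presheaf.germ W x hxW t) :
    ∃ (O : X.Opens) (h₁ : O ≤ V) (h₂ : O ≤ W), x ∈ O ∧ res M h₁ s = res M h₂ t := by
  obtain ⟨O, hxO, i₁, i₂, he⟩ := TopCat.Presheaf.germ_eq M.presheaf x hxV hxW s t e
  exact ⟨O, i₁.le, i₂.le, hxO, he⟩

theorem eq_of_locally_eq (M : X.Modules) {W : X.Opens} (s t : Γ(M, W))
    (h : ∀ x ∈ W, ∃ (O : X.Opens) (hO : O ≤ W), x ∈ O ∧ res M hO s = res M hO t) : s = t :=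
  section_ext s t fun x hx => by
    obtain ⟨O, hO, hxO, e⟩ := h x hx
    rw [← germ_res M hO x hxO, ← germ_res M hO x hxO, e]

/-- Gluing. -/
theorem exists_glue (M : X.Modules) {ι : Type u} (O : ι → X.Opens) (W : X.Opens) (hle : ∀ i, O i ≤ W)
    (hcov : ∀ x ∈ W, ∃ i, x ∈ O i) (s : ∀ i, Γ(M, O i))
    (hs : ∀ i j, res M (inf_le_left : O i ⊓ O j ≤ O i) (s i) = res M (inf_le_right : O i ⊓ O j ≤ O j) (s j)) :
    ∃ t : Γ(M, W), ∀ i, res M (hle i) t = s i := by
  obtain ⟨t, ht, -⟩ := TopCat.Sheaf.existsUnique_gluing' (X := X.toTopCat) ⟨M.presheaf, M.isSheaf⟩ O W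
    (fun i => homOfLE (hle i)) (fun x hx => Opens.mem_iSup.mpr (hcov x hx)) s hs
  exact ⟨t, ht⟩

theorem diagram_app {Z : Set X} {F G : X.Modules} (u : F ⟶ G) (T : Cl Z) (W : X.Opens) :
    (((diagram Z).map u).app T).app W = u.app (cut T.U W) := rfl

theorem diagram_map_app {Z : Set X} (F : X.Modules) {T T' : Cl Z} (f : T ⟶ T') (W : X.Opens) (s : Γ(F, cut T.U W)) :
    (((diagram Z).obj F).map f).app W s = res F (resPush_le (Cl.U_anti f.le) W) s := by
  show (resPushMapApp (Cl.U_anti f.le) F).app W s = _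
  rw [resPushMapApp_app]
  rfl

theorem toDiagram_app (Z : Set X) (F : X.Modules) (T : Cl Z) (W : X.Opens) (s : Γ(F, W)) :
    (toDiagram Z F T).app W s = res F (cut_le T.U W) s := rfl

/-! ### Stalks of `H0` -/

/-- The stalk at `x` as a functor on modules. -/
noncomputable abbrev stk (x : X) : X.Modules ⥤ AddCommGrpCat.{u} :=
  toSh X ⋙ TopCat.Sheaf.forget AddCommGrpCat.{u} X.toTopCat ⋙ TopCat.Presheaf.stalkFunctor AddCommGrpCat.{u} x

theorem stk_preservesColimits (x : X) {K : Type u} [SmallCategory K] : PreservesColimitsOfShape K (stk x) := by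
  classical
  have h1 : PreservesColimitsOfSize.{u, u} (toSh X) := ModGroth.toSheaf_preservesColimits X.ringCatSheaf
  have h2 : PreservesColimitsOfSize.{u, u}
      (TopCat.Sheaf.forget AddCommGrpCat.{u} X.toTopCat ⋙ TopCat.Presheaf.stalkFunctor AddCommGrpCat.{u} x) :=
    (stalkSkyscraperSheafAdjunction x).leftAdjoint_preservesColimits
  exact @comp_preservesColimitsOfShape _ _ _ _ _ _ _ _ _ _ h1.preservesColimitsOfShape h2.preservesColimitsOfShape

variable {Z : Set X} {F : X.Modules}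

/-- The map from the `T`-th module to the `Z`-closure. -/
noncomputable abbrev inc (F : X.Modules) (T : Cl Z) : ((diagram Z).obj F).obj T ⟶ (H0 Z).obj F :=
  colimit.ι ((diagram Z).obj F) T

theorem exists_germ (x : X) (a : ((H0 Z).obj F).presheaf.stalk x) :
    ∃ (T : Cl Z) (W : X.Opens) (hx : x ∈ W) (s : Γ(F, cut T.U W)),
      ((H0 Z).obj F).presheaf.germ W x hx ((inc F T).app W s) = a := by
  have := stk_preservesColimits (X := X) x (K := Cl Z)
  obtain ⟨T, b, hb⟩ := Concrete.isColimit_exists_rep _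
    (isColimitOfPreserves (stk x) (colimit.isColimit ((diagram Z).obj F))) a
  change stalkHom (inc F T) x b = a at hb
  obtain ⟨W, hx, s, rfl⟩ := (((diagram Z).obj F).obj T).presheaf.exists_germ_eq b
  exact ⟨T, W, hx, s, (stalkHom_germ (inc F T) W x hx s).symm.trans hb⟩

theorem exists_res_eq_zero (x : X) (T : Cl Z) (W : X.Opens) (hx : x ∈ W) (s : Γ(F, cut T.U W))
    (h : ((H0 Z).obj F).presheaf.germ W x hx ((inc F T).app W s) = 0) :
    ∃ (T' : Cl Z) (hT : T ≤ T') (W' : X.Opens) (hW : W' ≤ W), x ∈ W' ∧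
      res F (show cut T'.U W' ≤ cut T.U W from fun y hy =>
        mem_cut.mpr ⟨Cl.U_anti hT (mem_cut.mp hy).1, hW (mem_cut.mp hy).2⟩) s = 0 := by
  have := stk_preservesColimits (X := X) x (K := Cl Z)
  let D := ((diagram Z).obj F)
  have h0 : stalkHom (inc F T) x ((D.obj T).presheaf.germ W x hx s) = stalkHom (inc F T) x 0 := by
    rw [stalkHom_germ, h, map_zero]
  obtain ⟨T', f, g, hfg⟩ := Concrete.isColimit_exists_of_rep_eq (D ⋙ stk x)
    (isColimitOfPreserves (stk x) (colimit.isColimit D)) (i := T) (j := T)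
    ((D.obj T).presheaf.germ W x hx s) 0 h0
  change stalkHom (D.map f) x ((D.obj T).presheaf.germ W x hx s) = stalkHom (D.map g) x 0 at hfg
  rw [stalkHom_germ, map_zero, diagram_map_app, ← map_zero ((D.obj T').presheaf.germ W x hx).hom] at hfg
  obtain ⟨O, h₁, h₂, hxO, he⟩ := exists_res_eq (D.obj T') hx hx _ 0 hfg
  refine ⟨T', f.le, O, h₁, hxO, ?_⟩
  have h00 : res (D.obj T') h₂ 0 = 0 := map_zero ((D.obj T').presheaf.map (homOfLE h₂).op).hom
  rw [h00] at he
  change res F _ (res F _ s) = 0 at he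
  rw [res_res] at he
  exact he

theorem rho_app_eq (T : Cl Z) (W : X.Opens) (s : Γ(F, W)) :
    (rhoApp Z F).app W s = (inc F T).app W (res F (cut_le T.U W) s) := by
  rw [rhoApp_eq Z F T]
  rfl

theorem inc_res (T T' : Cl Z) (hT : T ≤ T') (W : X.Opens) (s : Γ(F, cut T.U W)) :
    (inc F T).app W s = (inc F T').app W (res F (resPush_le (Cl.U_anti hT) W) s) := by
  have h := congrArg (fun φ => φ.app W s) (colimit.w ((diagram Z).obj F) (homOfLE hT : T ⟶ T'))
  refine h.symm.trans ?_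
  show (inc F T').app W ((((diagram Z).obj F).map (homOfLE hT)).app W s) = _
  rw [diagram_map_app]

end Groth.Agent.ZClosLib
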