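import Mathlib
import Groth.Agent.ZClosLib.Basic

/-!
# Z-pure and Z-closed modules
-/

universe u

open CategoryTheory CategoryTheory.Limits AlgebraicGeometry TopologicalSpace Opposite ZClos Groth.Agent.QCohLib

namespace Groth.Agent.ZClosLib

variable {X : Scheme.{u}} {Z : Set X}

/-- A morphism between modules bijective on sections of opens inside `U`. -/
theorem hom_ext_resPush {U : X.Opens} {G M F : X.Modules} (f : M ⟶ G) (hf : ∀ V : X.Opens, V ≤ U →
    Function.Bijective (f.app V)) (g g' : G ⟶ (resPush U).obj F) (h : f ≫ g = f ≫ g') : g = g' := by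
  refine Scheme.Modules.hom_ext _ _ fun W => ConcreteCategory.hom_ext _ _ fun a => ?_
  have hinj : Function.Injective (res ((resPush U).obj F) (cut_le U W)) :=
    (res_bijective_of_eq F (fun y hy => mem_cut.mpr ⟨(mem_cut.mp hy).1, cut_le U W (mem_cut.mp hy).2⟩)
      (by ext y; exact ⟨fun hy => mem_cut.mpr ⟨(mem_cut.mp hy).1, cut_le U W (mem_cut.mp hy).2⟩,
        fun hy => mem_cut.mpr ⟨(mem_cut.mp hy).1, hy⟩⟩)).1
  refine hinj ?_
  show res _ _ (g.app W a) = res _ _ (g'.app W a)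
  rw [← app_res, ← app_res]
  obtain ⟨m, hm⟩ := (hf _ (cut_le_left U W)).2 (res G (cut_le U W) a)
  rw [show res G (cut_le U W) a = f.app _ m from hm.symm]
  exact ConcreteCategory.congr_hom (congrArg (fun φ => φ.app (cut U W)) h) m

theorem toDiagram_app_bijective (F : X.Modules) (T : Cl Z) {V : X.Opens} (hV : V ≤ T.U) :
    Function.Bijective ((toDiagram Z F T).app V) :=
  res_bijective_of_eq F (cut_le T.U V) (le_antisymm (cut_le _ _) fun y hy => mem_cut.mpr ⟨hV hy, hy⟩)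

theorem stalkHom_toDiagram_bijective (F : X.Modules) (T : Cl Z) {x : X} (hx : x ∈ T.U) :
    Function.Bijective (stalkHom (toDiagram Z F T) x) := by
  constructor
  · rw [injective_iff_map_eq_zero]
    intro a ha
    obtain ⟨W, hxW, s, rfl⟩ := F.presheaf.exists_germ_eq a
    have hle : W ⊓ T.U ≤ W := inf_le_left
    rw [← germ_res F hle x ⟨hxW, hx⟩, stalkHom_germ,
      ← map_zero ((((diagram Z).obj F).obj T).presheaf.germ (W ⊓ T.U) x ⟨hxW, hx⟩).hom] at ha
    obtain ⟨O, h₁, h₂, hxO, he⟩ := exists_res_eq _ _ _ _ _ ha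
    rw [← app_res, res_res, res_zero] at he
    rw [← germ_res F (h₁.trans hle) x hxO]
    have := (toDiagram_app_bijective F T (h₁.trans inf_le_right)).1 (he.trans (map_zero _).symm)
    rw [show res F (h₁.trans hle) s = 0 from this, map_zero]
  · intro b
    obtain ⟨W, hxW, s, rfl⟩ := (((diagram Z).obj F).obj T).presheaf.exists_germ_eq b
    have hle : W ⊓ T.U ≤ W := inf_le_left
    obtain ⟨m, hm⟩ := (toDiagram_app_bijective F T (inf_le_right : W ⊓ T.U ≤ T.U)).2
      (res (((diagram Z).obj F).obj T) hle s)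
    exact ⟨F.presheaf.germ (W ⊓ T.U) x ⟨hxW, hx⟩ m, by
      rw [stalkHom_germ, hm, germ_res (((diagram Z).obj F).obj T) hle]⟩

/-- `ρ` is bijective on stalks outside `Z`. -/
theorem stalkHom_rho_bijective (F : X.Modules) {x : X} (hx : x ∉ Z) :
    Function.Bijective (stalkHom (rhoApp Z F) x) := by
  constructor
  · rw [injective_iff_map_eq_zero]
    intro a ha
    obtain ⟨W, hxW, s, rfl⟩ := F.presheaf.exists_germ_eq a
    rw [stalkHom_germ, rho_app_eq ⊥] at ha
    obtain ⟨T, _hT, W', hW, hxW', he⟩ := exists_res_eq_zero x ⊥ W hxW _ ha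
    rw [res_res] at he
    refine (injective_iff_map_eq_zero _).mp (stalkHom_toDiagram_bijective F T fun h => hx (T.2 h)).1 _ ?_
    rw [← germ_res F hW x hxW', stalkHom_germ, toDiagram_app, res_res]
    erw [he]
    exact map_zero _
  · intro a
    obtain ⟨T, W, hxW, s, rfl⟩ := exists_germ x a
    obtain ⟨m, hm⟩ := (stalkHom_toDiagram_bijective F T fun h => hx (T.2 h)).2
      ((((diagram Z).obj F).obj T).presheaf.germ W x hxW s)
    refine ⟨m, ?_⟩
    rw [rhoApp_eq Z F T]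
    erw [stalkHom_comp, hm, stalkHom_germ]

/-- `F` is Z-pure iff all units are injective. -/
theorem isZPure_iff (F : X.Modules) : IsZPure Z F ↔ ∀ T : Cl Z, Mono (toDiagram Z F T) := by
  refine ⟨fun h T => ?_, fun h => ?_⟩
  · have : Mono (toDiagram Z F T ≫ colimit.ι ((diagram Z).obj F) T) := by
      rw [← rhoApp_eq]; exact h
    exact mono_of_mono _ (colimit.ι ((diagram Z).obj F) T)
  · refine (mono_iff_stalk_injective (rhoApp Z F)).mpr fun x => (injective_iff_map_eq_zero _).mpr fun a ha => ?_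
    obtain ⟨W, hxW, s, rfl⟩ := F.presheaf.exists_germ_eq a
    rw [stalkHom_germ, rho_app_eq ⊥] at ha
    obtain ⟨T, _hT, W', hW, hxW', he⟩ := exists_res_eq_zero x ⊥ W hxW _ ha
    rw [res_res] at he
    have h2 := (mono_iff_app_injective _).mp (h T) W'
      (a₁ := res F hW s) (a₂ := 0) (by rw [toDiagram_app, res_res, map_zero]; exact he)
    rw [← germ_res F hW x hxW', h2, map_zero]

/-- `F` is Z-closed iff all units are bijective. -/
theorem isZClosed_iff (F : X.Modules) : IsZClosed Z F ↔ ∀ T : Cl Z, IsIso (toDiagram Z F T) := by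
  refine ⟨fun h T => ?_, fun h => ?_⟩
  · have : IsIso (rhoApp Z F) := h
    have : IsIso ((rho Z).app F) := h
    have hr : toDiagram Z F T ≫ inc F T ≫ inv (rhoApp Z F) = 𝟙 F :=
      (Category.assoc _ _ _).symm.trans ((congrArg (· ≫ inv (rhoApp Z F)) (rhoApp_eq Z F T).symm).trans
        (IsIso.hom_inv_id (rhoApp Z F)))
    refine ⟨inc F T ≫ inv (rhoApp Z F), hr, ?_⟩
    refine hom_ext_resPush (toDiagram Z F T) (fun V hV => toDiagram_app_bijective F T hV) _ _ ?_
    exact (Category.assoc _ _ _).symm.trans ((congrArg (· ≫ toDiagram Z F T) hr).trans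
      ((Category.id_comp _).trans (Category.comp_id _).symm))
  · refine (isIso_iff_stalk_bijective (rhoApp Z F)).mpr fun x => ⟨?_, fun a => ?_⟩
    · exact (mono_iff_stalk_injective _).mp ((isZPure_iff F).mpr fun T => by have := h T; infer_instance) x
    · obtain ⟨T, W, hxW, s, rfl⟩ := exists_germ x a
      obtain ⟨m, hm⟩ := ((isIso_iff_stalk_bijective _).mp (h T) x).2
        ((((diagram Z).obj F).obj T).presheaf.germ W x hxW s)
      refine ⟨m, ?_⟩
      rw [rhoApp_eq Z F T]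
      erw [stalkHom_comp, hm, stalkHom_germ]

theorem pure_of_closed {F : X.Modules} (h : IsZClosed Z F) : IsZPure Z F := by
  have : IsIso (rhoApp Z F) := h
  show Mono (rhoApp Z F)
  infer_instance

theorem eq_zero_of_pure {F : X.Modules} (h : IsZPure Z F) (T : Cl Z) {W : X.Opens} (s : Γ(F, W))
    (hs : res F (cut_le T.U W) s = 0) : s = 0 :=
  (mono_iff_app_injective _).mp ((isZPure_iff F).mp h T) W (hs.trans (map_zero _).symm)

theorem exists_extend {F : X.Modules} (h : IsZClosed Z F) (T : Cl Z) (W : X.Opens) (t : Γ(F, cut T.U W)) :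
    ∃ s : Γ(F, W), res F (cut_le T.U W) s = t := by
  have := (isZClosed_iff F).mp h T
  exact (ConcreteCategory.bijective_of_isIso ((toDiagram Z F T).app W)).2 t

variable [IsLocallyNoetherian X]

theorem closure_subset (hZ : StableUnderSpecialization Z) (V : X.Opens) {C : Set X} (hC : C ⊆ Z)
    (hrel : closure C ∩ V ⊆ C) (hCV : C ⊆ V) : closure C ⊆ Z := by
  intro y hy
  obtain ⟨_, ⟨W, hW, rfl⟩, hyW, -⟩ := X.isBasis_affineOpens.exists_subset_of_mem_open (Set.mem_univ y) isOpen_univ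
  haveI : NoetherianSpace ↥(W : Set X) := by
    have : IsNoetherianRing Γ(X, W) := IsLocallyNoetherian.component_noetherian ⟨W, hW⟩
    exact noetherianSpace_of_isAffineOpen W hW
  let S : Closeds ↥(W : Set X) := ⟨Subtype.val ⁻¹' closure C, isClosed_closure.preimage continuous_subtype_val⟩
  obtain ⟨𝒵, h𝒵, hirr, hS⟩ := NoetherianSpace.exists_finite_set_closeds_irreducible S
  let 𝒵' := {P ∈ 𝒵 | ∃ w ∈ (P : Set ↥(W : Set X)), (w : X) ∈ V}
  have hmem : ∀ w : ↥(W : Set X), (w : X) ∈ C → ∃ P ∈ 𝒵', w ∈ P := by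
    intro w hw
    have : w ∈ sSup 𝒵 := hS ▸ (show w ∈ S from subset_closure (s := C) hw)
    change w ∈ ((sSup 𝒵 : Closeds ↥(W : Set X)) : Set ↥(W : Set X)) at this
    rw [Closeds.coe_sSup, Set.sUnion_image, (h𝒵.isClosed_biUnion fun P _ => P.isClosed).closure_eq] at this
    obtain ⟨P, hP, hwP⟩ := Set.mem_iUnion₂.mp this
    exact ⟨P, ⟨hP, w, hwP, hCV hw⟩, hwP⟩
  have hclosed : IsClosed (⋃ P ∈ 𝒵', (P : Set ↥(W : Set X))) :=
    (h𝒵.subset fun P hP => hP.1).isClosed_biUnion fun P _ => P.isClosed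
  have hyS : (⟨y, hyW⟩ : ↥(W : Set X)) ∈ ⋃ P ∈ 𝒵', (P : Set ↥(W : Set X)) := by
    have h1 : (⟨y, hyW⟩ : ↥(W : Set X)) ∈ closure (Subtype.val ⁻¹' C : Set ↥(W : Set X)) := by
      rw [← W.isOpen.isOpenMap_subtype_val.preimage_closure_eq_closure_preimage continuous_subtype_val]
      exact hy
    exact hclosed.closure_subset_iff.mpr (fun w hw => Set.mem_iUnion₂.mpr
      (let ⟨P, hP, hwP⟩ := hmem w hw; ⟨P, hP, hwP⟩)) h1
  obtain ⟨P, ⟨hP, w, hwP, hwV⟩, hyP⟩ := Set.mem_iUnion₂.mp hyS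
  obtain ⟨η, hη⟩ := QuasiSober.sober (((hirr _ hP).image Subtype.val continuous_subtype_val.continuousOn).closure)
    isClosed_closure
  have hηV : η ∈ V := (hη.specializes (subset_closure ⟨w, hwP, rfl⟩)).mem_open V.isOpen hwV
  have hle : closure (Subtype.val '' (P : Set ↥(W : Set X))) ⊆ closure C := by
    refine closure_minimal ?_ isClosed_closure
    rintro _ ⟨q, hq, rfl⟩
    have : q ∈ S := (le_sSup hP).trans_eq hS.symm hq
    exact this
  exact hZ (hη.specializes (subset_closure ⟨_, hyP, rfl⟩)) (hC (hrel ⟨hle hη.mem, hηV⟩))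

/-- The closure of a closed subset of `V` inside `Z`, as an index. -/
def closureCl (hZ : StableUnderSpecialization Z) (V : X.Opens) (C : Set X) (hC : C ⊆ Z)
    (hrel : closure C ∩ V ⊆ C) (hCV : C ⊆ V) : Cl Z :=
  ⟨⟨closure C, isClosed_closure⟩, closure_subset hZ V hC hrel hCV⟩

theorem mem_U_closureCl {hZ : StableUnderSpecialization Z} {V : X.Opens} {C : Set X} {hC : C ⊆ Z}
    {hrel : closure C ∩ V ⊆ C} {hCV : C ⊆ V} {x : X} (hx : x ∈ (closureCl hZ V C hC hrel hCV).U) : x ∉ C :=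
  fun h => hx (subset_closure h)

/-- A section whose germs vanish outside `Z` vanishes outside a closed subset contained in `Z`. -/
theorem exists_cut_eq_zero (hZ : StableUnderSpecialization Z) (F : X.Modules) (V : X.Opens) (s : Γ(F, V))
    (h : ∀ x (hx : x ∈ V), x ∉ Z → F.presheaf.germ V x hx s = 0) :
    ∃ T : Cl Z, res F (cut_le T.U V) s = 0 := by
  let C : Set X := {x | ∃ hx : x ∈ V, F.presheaf.germ V x hx s ≠ 0}
  have hrel : closure C ∩ V ⊆ C := by
    rintro x ⟨hxC, hxV⟩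
    refine ⟨hxV, fun h0 => ?_⟩
    obtain ⟨O, h₁, h₂, hxO, he⟩ := exists_res_eq F hxV hxV s 0 (h0.trans (map_zero _).symm)
    obtain ⟨z, hzO, hzV, hz⟩ := mem_closure_iff.mp hxC O O.isOpen hxO
    exact hz (by rw [← germ_res F h₁ z hzO, he, germ_res, map_zero])
  refine ⟨closureCl hZ V C (fun x ⟨hx, hne⟩ => by_contra fun hxZ => hne (h x hx hxZ)) hrel fun x hx => hx.1,
    section_ext _ _ fun x hx => ?_⟩
  rw [germ_res, map_zero]
  by_contra hne
  exact mem_U_closureCl (mem_cut.mp hx).1 ⟨_, hne⟩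

/-- Sections lift, outside a closed subset contained in `Z`, along maps bijective on stalks outside `Z`. -/
theorem exists_lift (hZ : StableUnderSpecialization Z) {F G : X.Modules} (u : F ⟶ G)
    (hu : ∀ x, x ∉ Z → Function.Bijective (stalkHom u x)) {W : X.Opens} (hW : IsAffineOpen W)
    {V : X.Opens} (hVW : V ≤ W) (t : Γ(G, V)) :
    ∃ (T : Cl Z) (s : Γ(F, cut T.U V)), u.app (cut T.U V) s = res G (cut_le T.U V) t := by
  classical
  haveI : NoetherianSpace ↥(W : Set X) := by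
    have : IsNoetherianRing Γ(X, W) := IsLocallyNoetherian.component_noetherian ⟨W, hW⟩
    exact noetherianSpace_of_isAffineOpen W hW
  let P := {O : X.Opens // ∃ (hO : O ≤ V) (s : Γ(F, O)), u.app O s = res G hO t}
  let Ω : Set X := ⋃ O : P, (O.1 : Set X)
  have hΩW : Ω ⊆ W := Set.iUnion_subset fun O => (O.2.1).trans hVW
  have hcpt : IsCompact Ω := by
    rw [← Subtype.image_preimage_coe (W : Set X) Ω |>.trans (Set.inter_eq_right.mpr hΩW)]
    exact (NoetherianSpace.isCompact _).image continuous_subtype_val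
  obtain ⟨fs, hfs⟩ := hcpt.elim_finite_subcover (fun O : P => (O.1 : Set X)) (fun O => O.1.isOpen) subset_rfl
  have hlift : ∀ x ∈ V, x ∉ Z → x ∈ Ω := by
    intro x hxV hxZ
    obtain ⟨m, hm⟩ := (hu x hxZ).2 (G.presheaf.germ V x hxV t)
    obtain ⟨O, hxO, s, rfl⟩ := F.presheaf.exists_germ_eq m
    rw [stalkHom_germ] at hm
    obtain ⟨O', h₁, h₂, hxO', he⟩ := exists_res_eq G hxO hxV _ _ hm
    rw [← app_res] at he
    exact Set.mem_iUnion.mpr ⟨⟨O', h₂, _, he⟩, hxO'⟩
  let C : Set X := (V : Set X) \ Ω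
  let T₀ : Cl Z := closureCl hZ V C (fun x hx => by_contra fun hxZ => hx.2 (hlift x hx.1 hxZ))
    (fun x hx => ⟨hx.2, fun hΩ => by
      obtain ⟨z, hz, hzC⟩ := mem_closure_iff.mp hx.1 Ω (isOpen_iUnion fun O : P => O.1.isOpen) hΩ
      exact hzC.2 hz⟩) Set.sdiff_subset
  choose hle s hs using fun O : P => O.2
  have hpair : ∀ p : P × P, ∃ T : Cl Z, res F (cut_le T.U (p.1.1 ⊓ p.2.1))
      (res F (inf_le_left : p.1.1 ⊓ p.2.1 ≤ p.1.1) (s p.1) - res F (inf_le_right : p.1.1 ⊓ p.2.1 ≤ p.2.1) (s p.2)) = 0 := by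
    rintro ⟨O, O'⟩
    refine exists_cut_eq_zero hZ F _ _ fun x hx hxZ => (hu x hxZ).1 ?_
    rw [stalkHom_germ, map_sub, app_res, app_res, hs, hs, res_res, res_res, sub_self, map_zero, map_zero]
  choose Tp hTp using hpair
  let T : Cl Z := T₀ ⊔ (fs ×ˢ fs).sup Tp
  have hcov : ∀ x ∈ cut T.U V, ∃ O : fs, x ∈ cut T.U O.1.1 := by
    intro x hx
    obtain ⟨hxT, hxV⟩ := mem_cut.mp hx
    have hxΩ : x ∈ Ω := by_contra fun hn => mem_U_closureCl (Cl.U_anti (le_sup_left : T₀ ≤ T) hxT) ⟨hxV, hn⟩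
    obtain ⟨O, hO, hxO⟩ := Set.mem_iUnion₂.mp (hfs hxΩ)
    exact ⟨⟨O, hO⟩, mem_cut.mpr ⟨hxT, hxO⟩⟩
  have hmono : ∀ O : P, cut T.U O.1 ≤ cut T.U V := fun O y hy =>
    mem_cut.mpr ⟨(mem_cut.mp hy).1, hle O (mem_cut.mp hy).2⟩
  obtain ⟨g, hg⟩ := exists_glue F (fun O : fs => cut T.U O.1.1) (cut T.U V) (fun O => hmono O.1) hcov
    (fun O => res F (cut_le T.U O.1.1) (s O.1)) fun O O' => by
      have h := hTp (O.1, O'.1)
      have hTT : Tp (O.1, O'.1) ≤ T :=
        (Finset.le_sup (Finset.mem_product.mpr ⟨O.2, O'.2⟩)).trans le_sup_right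
      have hle' : cut T.U O.1.1 ⊓ cut T.U O'.1.1 ≤ cut (Tp (O.1, O'.1)).U (O.1.1 ⊓ O'.1.1) := fun y hy =>
        mem_cut.mpr ⟨Cl.U_anti hTT (mem_cut.mp hy.1).1, (mem_cut.mp hy.1).2, (mem_cut.mp hy.2).2⟩
      have h2 := congrArg (res F hle') h
      rw [res_res, res_sub, res_res, res_res, res_zero, sub_eq_zero] at h2
      rw [res_res, res_res]
      exact h2
  refine ⟨T, g, eq_of_locally_eq G _ _ fun x hx => ?_⟩
  obtain ⟨O, hxO⟩ := hcov x hx
  refine ⟨cut T.U O.1.1, hmono O.1, hxO, ?_⟩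
  rw [← app_res, hg O, app_res, hs, res_res, res_res]

/-- A map of Z-closed modules bijective on stalks outside `Z` is an isomorphism. -/
theorem isIso_of_bijective_off (hZ : StableUnderSpecialization Z) {G G' : X.Modules} (hG : IsZClosed Z G)
    (hG' : IsZPure Z G') (w : G ⟶ G') (hw : ∀ x, x ∉ Z → Function.Bijective (stalkHom w x)) : IsIso w := by
  rw [isIso_iff_stalk_bijective]
  refine fun x => ⟨(injective_iff_map_eq_zero _).mpr fun a ha => ?_, fun b => ?_⟩
  · obtain ⟨V, hxV, s, rfl⟩ := G.presheaf.exists_germ_eq a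
    rw [stalkHom_germ, ← map_zero (G'.presheaf.germ V x hxV).hom] at ha
    obtain ⟨O, h₁, h₂, hxO, he⟩ := exists_res_eq G' hxV hxV _ _ ha
    rw [← app_res, res_zero] at he
    obtain ⟨T, hT⟩ := exists_cut_eq_zero hZ G O (res G h₁ s) fun y hy hyZ => (hw y hyZ).1 (by
      rw [stalkHom_germ, he, map_zero, map_zero])
    rw [← germ_res G h₁ x hxO, eq_zero_of_pure (pure_of_closed hG) T _ hT, map_zero]
  · obtain ⟨V₀, hxV₀, t₀, rfl⟩ := G'.presheaf.exists_germ_eq b
    obtain ⟨_, ⟨W, hW, rfl⟩, hxW, hWV⟩ := X.isBasis_affineOpens.exists_subset_of_mem_open hxV₀ V₀.isOpen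
    obtain ⟨T, s, hs⟩ := exists_lift hZ w hw hW le_rfl (res G' hWV t₀)
    obtain ⟨s', hs'⟩ := exists_extend hG T W s
    refine ⟨G.presheaf.germ W x hxW s', ?_⟩
    have : w.app W s' = res G' hWV t₀ := sub_eq_zero.mp (eq_zero_of_pure hG' T _ (by
      rw [res_sub, ← app_res, hs', hs, sub_self]))
    rw [stalkHom_germ, this, germ_res]

/-- The Z-closure is Z-closed. -/
theorem isZClosed_H0 (hZ : StableUnderSpecialization Z) (F : X.Modules) : IsZClosed Z ((H0 Z).obj F) := by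
  have hpure : IsZPure Z ((H0 Z).obj F) := by
    refine (isZPure_iff _).mpr fun T => (mono_iff_stalk_injective _).mpr fun x =>
      (injective_iff_map_eq_zero _).mpr fun a ha => ?_
    obtain ⟨T', W, hxW, s, rfl⟩ := exists_germ x a
    rw [stalkHom_germ, ← map_zero ((((diagram Z).obj ((H0 Z).obj F)).obj T).presheaf.germ W x hxW).hom] at ha
    obtain ⟨O, h₁, h₂, hxO, he⟩ := exists_res_eq _ hxW hxW _ _ ha
    rw [← app_res, toDiagram_app, res_zero] at he
    rw [← germ_res ((H0 Z).obj F) h₁ x hxO]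
    let s₁ : Γ(F, cut T'.U O) := res F (fun y hy => mem_cut.mpr ⟨(mem_cut.mp hy).1, h₁ (mem_cut.mp hy).2⟩) s
    have hs₁ : res ((H0 Z).obj F) h₁ ((inc F T').app W s) = (inc F T').app O s₁ :=
      (app_map (inc F T') h₁ s).symm
    rw [hs₁] at he ⊢
    obtain ⟨T'', hT''⟩ := exists_cut_eq_zero hZ F _ s₁ fun y hy hyZ => by
      obtain ⟨hyT', hyO⟩ := mem_cut.mp hy
      refine (injective_iff_map_eq_zero _).mp (stalkHom_rho_bijective F hyZ).1 _ ?_
      have hy' : y ∈ cut T.U (cut T'.U O) := mem_cut.mpr ⟨fun h => hyZ (T.2 h), hy⟩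
      rw [stalkHom_germ, rho_app_eq T', ← germ_res ((H0 Z).obj F) (cut_le T.U _) y hy']
      have h3 := congrArg (res ((H0 Z).obj F) (show cut T.U (cut T'.U O) ≤ cut T.U O from fun z hz =>
        mem_cut.mpr ⟨(mem_cut.mp hz).1, cut_le _ _ (mem_cut.mp hz).2⟩)) he
      have h4 : (inc F T').app (cut T'.U O) (res F (cut_le _ _) s₁) =
          res ((H0 Z).obj F) (cut_le T'.U O) ((inc F T').app O s₁) :=
        app_res (inc F T') (cut_le T'.U O) s₁
      rw [h4, res_res]
      exact (congrArg _ ((res_res _ _ _ _).symm.trans (h3.trans (res_zero _ _)))).trans (map_zero _)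
    rw [inc_res T' (T' ⊔ T'') le_sup_left O s₁,
      show res F (resPush_le (Cl.U_anti (le_sup_left : T' ≤ T' ⊔ T'')) O) s₁ = 0 from ?_]
    · erw [map_zero]
      exact map_zero _
    · have hle : cut (T' ⊔ T'').U O ≤ cut T''.U (cut T'.U O) := fun y hy =>
        mem_cut.mpr ⟨Cl.U_anti le_sup_right (mem_cut.mp hy).1,
          mem_cut.mpr ⟨Cl.U_anti le_sup_left (mem_cut.mp hy).1, (mem_cut.mp hy).2⟩⟩
      rw [← res_res F hle (cut_le _ _), hT'', res_zero]
  refine (isZClosed_iff _).mpr fun T => (isIso_iff_stalk_bijective _).mpr fun x => ⟨?_, fun b => ?_⟩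
  · exact (mono_iff_stalk_injective _).mp ((isZPure_iff _).mp hpure T) x
  · obtain ⟨V₀, hxV₀, t₀, rfl⟩ := (((diagram Z).obj ((H0 Z).obj F)).obj T).presheaf.exists_germ_eq b
    obtain ⟨_, ⟨W, hW, rfl⟩, hxW, hWV⟩ := X.isBasis_affineOpens.exists_subset_of_mem_open hxV₀ V₀.isOpen
    rw [← germ_res _ hWV x hxW]
    let t : Γ((H0 Z).obj F, cut T.U W) := res (((diagram Z).obj ((H0 Z).obj F)).obj T) hWV t₀
    obtain ⟨T', s, hs⟩ := exists_lift hZ (rhoApp Z F) (fun y hy => stalkHom_rho_bijective F hy) hW (cut_le T.U W) t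
    have hle : cut (T ⊔ T').U W ≤ cut T'.U (cut T.U W) := fun y hy =>
      mem_cut.mpr ⟨Cl.U_anti le_sup_right (mem_cut.mp hy).1,
        mem_cut.mpr ⟨Cl.U_anti le_sup_left (mem_cut.mp hy).1, (mem_cut.mp hy).2⟩⟩
    let s₂ : Γ(F, cut (T ⊔ T').U W) := res F hle s
    refine ⟨((H0 Z).obj F).presheaf.germ W x hxW ((inc F (T ⊔ T')).app W s₂), ?_⟩
    rw [stalkHom_germ, toDiagram_app]
    refine congrArg _ (sub_eq_zero.mp (eq_zero_of_pure hpure (T ⊔ T')
      (res ((H0 Z).obj F) (cut_le T.U W) ((inc F (T ⊔ T')).app W s₂) - t) ?_))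
    rw [res_sub, sub_eq_zero, res_res]
    have hh : cut (T ⊔ T').U (cut T.U W) ≤ cut T'.U (cut T.U W) := fun y hy =>
      mem_cut.mpr ⟨Cl.U_anti le_sup_right (mem_cut.mp hy).1, (mem_cut.mp hy).2⟩
    have h5 := congrArg (res ((H0 Z).obj F) hh) hs
    rw [← app_res, res_res, rho_app_eq (T ⊔ T')] at h5
    refine Eq.trans ?_ h5
    rw [← app_res]
    refine congrArg _ ?_
    show res F _ (res F hle s) = res F _ (res F hh s)
    rw [res_res, res_res]

end Groth.Agent.ZClosLib
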