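import Mathlib
import Groth.Agent.ModGroth.Basic
import Groth.Agent.ZClosLib.Main

/-!
# Z-pure / Z-closed: criteria on sections, locality, universal property, exactness
-/

universe u

open CategoryTheory CategoryTheory.Limits AlgebraicGeometry TopologicalSpace Opposite ZClos Groth.Agent.QCohLib

namespace Groth.Agent.ZClosLib

variable {X : Scheme.{u}} {Z : Set X}

theorem res_iff_of_eq (M : X.Modules) {O O' W : X.Opens} (h : O ≤ W) (h' : O' ≤ W) (e : O = O') :
    (Function.Injective (res M h) ↔ Function.Injective (res M h')) ∧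
      (Function.Bijective (res M h) ↔ Function.Bijective (res M h')) := by
  subst e
  exact ⟨Iff.rfl, Iff.rfl⟩

theorem isZPure_of_basis (F : X.Modules) {B : Set X.Opens} (hB : Opens.IsBasis B)
    (h : ∀ (T : Cl Z), ∀ W ∈ B, Function.Injective (res F (cut_le T.U W))) : IsZPure Z F := by
  refine (isZPure_iff F).mpr fun T => (mono_iff_app_injective _).mpr fun W => ?_
  intro s s' e
  refine eq_of_locally_eq F s s' fun x hx => ?_
  obtain ⟨O, hO, hxO, hle⟩ := Opens.isBasis_iff_nbhd.mp hB hx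
  refine ⟨O, hle, hxO, h T O hO ?_⟩
  change res F (cut_le T.U W) s = res F (cut_le T.U W) s' at e
  have := congrArg (res F (show cut T.U O ≤ cut T.U W from fun y hy =>
    mem_cut.mpr ⟨(mem_cut.mp hy).1, hle (mem_cut.mp hy).2⟩)) e
  rw [res_res, res_res] at this ⊢
  exact this

theorem isZClosed_of_basis (F : X.Modules) {B : Set X.Opens} (hB : Opens.IsBasis B)
    (h : ∀ (T : Cl Z), ∀ W ∈ B, Function.Bijective (res F (cut_le T.U W))) : IsZClosed Z F := by
  refine (isZClosed_iff F).mpr fun T => (isIso_iff_stalk_bijective _).mpr fun x => ⟨?_, fun b => ?_⟩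
  · exact (mono_iff_stalk_injective _).mp
      ((isZPure_iff F).mp (isZPure_of_basis F hB fun T W hW => (h T W hW).1) T) x
  · obtain ⟨W, hxW, t, rfl⟩ := (((diagram Z).obj F).obj T).presheaf.exists_germ_eq b
    obtain ⟨O, hO, hxO, hle⟩ := Opens.isBasis_iff_nbhd.mp hB hxW
    obtain ⟨s, hs⟩ := (h T O hO).2 (res (((diagram Z).obj F).obj T) hle t)
    exact ⟨F.presheaf.germ O x hxO s, by rw [stalkHom_germ, toDiagram_app, hs, germ_res]⟩

theorem injective_of_isZPure {F : X.Modules} (h : IsZPure Z F) (T : Cl Z) (W : X.Opens) :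
    Function.Injective (res F (cut_le T.U W)) :=
  (mono_iff_app_injective _).mp ((isZPure_iff F).mp h T) W

theorem bijective_of_isZClosed {F : X.Modules} (h : IsZClosed Z F) (T : Cl Z) (W : X.Opens) :
    Function.Bijective (res F (cut_le T.U W)) :=
  ⟨injective_of_isZPure (pure_of_closed h) T W, fun t => exists_extend h T W t⟩

theorem cut_eq_inf (U V : X.Opens) : cut U V = V ⊓ U := by rw [cut, ι_image_preimage, inf_comm]

theorem isCompact_basis : Opens.IsBasis {V : X.Opens | IsCompact (V : Set X)} := by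
  refine Opens.isBasis_iff_nbhd.mpr fun {U x} hx => ?_
  obtain ⟨V, hV, hxV, hle⟩ := Opens.isBasis_iff_nbhd.mp X.isBasis_affineOpens hx
  exact ⟨V, IsAffineOpen.isCompact hV, hxV, hle⟩

theorem isZPure_iff_compact (F : X.Modules) : IsZPure Z F ↔ ∀ (T : Cl Z) (V : X.Opens), IsCompact (V : Set X) →
    Function.Injective (F.presheaf.map (homOfLE (inf_le_left : V ⊓ T.U ≤ V)).op) :=
  ⟨fun h T V _ => (res_iff_of_eq F _ _ (cut_eq_inf T.U V)).1.mp (injective_of_isZPure h T V),
    fun h => isZPure_of_basis F isCompact_basis fun T W hW =>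
      (res_iff_of_eq F _ inf_le_left (cut_eq_inf T.U W)).1.mpr (h T W hW)⟩

theorem isZClosed_iff_compact (F : X.Modules) : IsZClosed Z F ↔ ∀ (T : Cl Z) (V : X.Opens), IsCompact (V : Set X) →
    Function.Bijective (F.presheaf.map (homOfLE (inf_le_left : V ⊓ T.U ≤ V)).op) :=
  ⟨fun h T V _ => (res_iff_of_eq F _ _ (cut_eq_inf T.U V)).2.mp (bijective_of_isZClosed h T V),
    fun h => isZClosed_of_basis F isCompact_basis fun T W hW =>
      (res_iff_of_eq F _ inf_le_left (cut_eq_inf T.U W)).2.mpr (h T W hW)⟩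

theorem existsUnique_fac {F F' : X.Modules} (hF' : IsZClosed Z F') (u : F ⟶ F') :
    ∃! v : (H0 Z).obj F ⟶ F', rhoApp Z F ≫ v = u := by
  have : IsIso (rhoApp Z F') := hF'
  refine ⟨(H0 Z).map u ≫ inv (rhoApp Z F'), ?_, fun v hv => ?_⟩
  · exact (Category.assoc _ _ _).symm.trans ((congrArg (· ≫ inv (rhoApp Z F')) ((rho Z).naturality u).symm).trans
      ((Category.assoc _ _ _).trans ((congrArg (u ≫ ·) (IsIso.hom_inv_id (rhoApp Z F'))).trans (Category.comp_id u))))
  · have huniq : ∀ v₁ v₂ : (H0 Z).obj F ⟶ F', rhoApp Z F ≫ v₁ = rhoApp Z F ≫ v₂ → v₁ = v₂ := by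
      intro v₁ v₂ h
      refine colimit.hom_ext fun T => ?_
      have := (isZClosed_iff F').mp hF' T
      rw [← cancel_mono (toDiagram Z F' T)]
      refine hom_ext_resPush (toDiagram Z F T) (fun V hV => toDiagram_app_bijective F T hV) _ _ ?_
      rw [rhoApp_eq Z F T] at h
      have h' := congrArg (· ≫ toDiagram Z F' T) h
      exact ((Category.assoc _ _ _).symm.trans ((congrArg (· ≫ toDiagram Z F' T) (Category.assoc _ _ _).symm).trans
        (h'.trans ((congrArg (· ≫ toDiagram Z F' T) (Category.assoc _ _ _)).trans (Category.assoc _ _ _)))))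
    refine huniq _ _ (hv.trans ?_)
    exact ((Category.assoc _ _ _).symm.trans ((congrArg (· ≫ inv (rhoApp Z F')) ((rho Z).naturality u).symm).trans
      ((Category.assoc _ _ _).trans ((congrArg (u ≫ ·) (IsIso.hom_inv_id (rhoApp Z F'))).trans (Category.comp_id u))))).symm

theorem preservesFiniteLimits_H0 : PreservesFiniteLimits (H0 (X := X) Z) := by
  have hd : PreservesFiniteLimits (diagram (X := X) Z) := by
    constructor
    intro J _ _
    refine preservesLimitsOfShape_of_evaluation _ J fun T => ?_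
    show PreservesLimitsOfShape J (resPush T.U)
    infer_instance
  have : HasExactColimitsOfShape (Cl Z) X.Modules := ModGroth.sheaf_hasExactColimitsOfShape _ (Cl Z)
  have hc : PreservesFiniteLimits (colim : (Cl Z ⥤ X.Modules) ⥤ X.Modules) :=
    HasExactColimitsOfShape.preservesFiniteLimits
  exact comp_preservesFiniteLimits (diagram Z) colim

variable [IsLocallyNoetherian X]

theorem isZero_H0_iff (hZ : StableUnderSpecialization Z) (F : X.Modules) :
    IsZero ((H0 Z).obj F) ↔ ∀ x : X, x ∉ Z → Subsingleton (F.presheaf.stalk x) := by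
  refine ⟨fun h x hx => ?_, fun h => isZero_of_subsingleton_stalk fun x => ?_⟩
  · have := subsingleton_stalk_of_isZero h x
    exact (stalkHom_rho_bijective F hx).1.subsingleton
  · refine ⟨fun a b => ?_⟩
    suffices H : ∀ a : ((H0 Z).obj F).presheaf.stalk x, a = 0 by rw [H a, H b]
    intro a
    obtain ⟨T, W, hxW, s, rfl⟩ := exists_germ x a
    obtain ⟨T', hT'⟩ := exists_cut_eq_zero hZ F _ s fun y hy hyZ => by
      have := h y hyZ
      exact Subsingleton.elim _ _
    have hle : cut (T ⊔ T').U W ≤ cut T'.U (cut T.U W) := fun y hy =>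
      mem_cut.mpr ⟨Cl.U_anti le_sup_right (mem_cut.mp hy).1,
        mem_cut.mpr ⟨Cl.U_anti le_sup_left (mem_cut.mp hy).1, (mem_cut.mp hy).2⟩⟩
    rw [inc_res T (T ⊔ T') le_sup_left W s,
      show res F (resPush_le (Cl.U_anti (le_sup_left : T ≤ T ⊔ T')) W) s = 0 by
        rw [← res_res F hle (cut_le _ _), hT', res_zero]]
    erw [map_zero]
    exact map_zero _

theorem isZPure_isZClosed_iff_restrict (hZ : StableUnderSpecialization Z) (F : X.Modules) {ι : Type u}
    (V : ι → X.Opens) (hV : iSup V = ⊤) :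
    (IsZPure Z F ↔ ∀ i, IsZPure ((V i).ι.base ⁻¹' Z) ((Scheme.Modules.restrictFunctor (V i).ι).obj F)) ∧
      (IsZClosed Z F ↔ ∀ i, IsZClosed ((V i).ι.base ⁻¹' Z) ((Scheme.Modules.restrictFunctor (V i).ι).obj F)) := by
  have hB : Opens.IsBasis {W : X.Opens | ∃ i, W ≤ V i} := Opens.isBasis_iff_nbhd.mpr fun {U x} hx => by
    have hx' : x ∈ iSup V := hV ▸ trivial
    obtain ⟨i, hi⟩ := Opens.mem_iSup.mp hx'
    exact ⟨U ⊓ V i, ⟨i, inf_le_right⟩, ⟨hx, hi⟩, inf_le_left⟩
  -- from `X` to `V i`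
  have key1 : ∀ i (T : Cl ((V i).ι.base ⁻¹' Z)) (W : (V i).toScheme.Opens), ∃ T₀ : Cl Z,
      (V i).ι ''ᵁ cut T.U W = cut T₀.U ((V i).ι ''ᵁ W) := by
    intro i T W
    let j := (V i).ι
    let C : Set X := j '' (T.1 : Set (V i).toScheme)
    have hCV : C ⊆ V i := by rintro _ ⟨w, -, rfl⟩; exact w.2
    have hrel : closure C ∩ V i ⊆ C := by
      rintro x ⟨hxC, hxV⟩
      refine ⟨⟨x, hxV⟩, ?_, rfl⟩
      have h1 : (⟨x, hxV⟩ : (V i).toScheme) ∈ closure (T.1 : Set (V i).toScheme) := by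
        rw [j.isOpenEmbedding.isInducing.closure_eq_preimage_closure_image]
        exact hxC
      rwa [T.1.isClosed.closure_eq] at h1
    refine ⟨closureCl hZ (V i) C (by rintro _ ⟨w, hw, rfl⟩; exact T.2 hw) hrel hCV, ?_⟩
    ext x
    constructor
    · rintro ⟨w, hw, rfl⟩
      obtain ⟨hwT, hwW⟩ := mem_cut.mp hw
      refine mem_cut.mpr ⟨fun hcl => hwT ?_, w, hwW, rfl⟩
      obtain ⟨w', hw', e⟩ := hrel ⟨hcl, w.2⟩
      rwa [j.isOpenEmbedding.injective e] at hw'
    · intro hx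
      obtain ⟨hxT, w, hwW, rfl⟩ := mem_cut.mp hx
      exact ⟨w, mem_cut.mpr ⟨fun hwT => hxT (subset_closure ⟨w, hwT, rfl⟩), hwW⟩, rfl⟩
  -- from `V i` to `X`
  have key2 : ∀ i (T : Cl Z) (W : X.Opens), W ≤ V i → ∃ (T' : Cl ((V i).ι.base ⁻¹' Z))
      (W' : (V i).toScheme.Opens), (V i).ι ''ᵁ W' = W ∧ (V i).ι ''ᵁ cut T'.U W' = cut T.U W := by
    intro i T W hW
    refine ⟨⟨⟨(V i).ι.base ⁻¹' T.1, T.1.isClosed.preimage (V i).ι.continuous⟩, fun w hw => T.2 hw⟩,
      (V i).ι ⁻¹ᵁ W, by rw [ι_image_preimage, inf_eq_right.mpr hW], ?_⟩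
    ext x
    constructor
    · rintro ⟨w, hw, rfl⟩
      exact mem_cut.mpr ⟨(mem_cut.mp hw).1, (mem_cut.mp hw).2⟩
    · intro hx
      obtain ⟨hxT, hxW⟩ := mem_cut.mp hx
      exact ⟨⟨x, hW hxW⟩, mem_cut.mpr ⟨hxT, hxW⟩, rfl⟩
  refine ⟨⟨fun h i => ?_, fun h => ?_⟩, ⟨fun h i => ?_, fun h => ?_⟩⟩
  · refine isZPure_of_basis _ ((V i).toScheme.isBasis_affineOpens) fun T W _ => ?_
    obtain ⟨T₀, e⟩ := key1 i T W
    exact (res_iff_of_eq F ((Scheme.Hom.image_le_image_iff (V i).ι _ _).mpr (cut_le T.U W)) (cut_le T₀.U _) e).1.mpr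
      (injective_of_isZPure h T₀ _)
  · refine isZPure_of_basis F hB fun T W hW => ?_
    obtain ⟨i, hi⟩ := hW
    obtain ⟨T', W', e', e⟩ := key2 i T W hi
    subst e'
    exact (res_iff_of_eq F ((Scheme.Hom.image_le_image_iff (V i).ι _ _).mpr (cut_le T'.U W')) (cut_le T.U _) e).1.mp
      (injective_of_isZPure (h i) T' W')
  · refine isZClosed_of_basis _ ((V i).toScheme.isBasis_affineOpens) fun T W _ => ?_
    obtain ⟨T₀, e⟩ := key1 i T W
    exact (res_iff_of_eq F ((Scheme.Hom.image_le_image_iff (V i).ι _ _).mpr (cut_le T.U W)) (cut_le T₀.U _) e).2.mpr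
      (bijective_of_isZClosed h T₀ _)
  · refine isZClosed_of_basis F hB fun T W hW => ?_
    obtain ⟨i, hi⟩ := hW
    obtain ⟨T', W', e', e⟩ := key2 i T W hi
    subst e'
    exact (res_iff_of_eq F ((Scheme.Hom.image_le_image_iff (V i).ι _ _).mpr (cut_le T'.U W')) (cut_le T.U _) e).2.mp
      (bijective_of_isZClosed (h i) T' W')

end Groth.Agent.ZClosLib
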